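import Cfsg.Agent.H481.EP.FiRep

/-!
# The 78-dimensional representation of `Fi22` over the field with 17 elements is absolutely irreducible (helper481)

Ten diagonal matrices of the group separate the coordinates, and one transposition has no entry zero; so the span of the
image contains all matrices.
-/

set_option autoImplicit false
set_option maxRecDepth 100000
set_option maxHeartbeats 4000000

namespace Cfsg.Agent.H481.EP.FiSpan

open Cfsg.Agent.Lib.PackMat Cfsg.Agent.H481.EP.FiData Cfsg.Agent.H481.EP.FiRep Cfsg.Spor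

instance fact17 : Fact (Nat.Prime 17) := ⟨by norm_num⟩

/-- digit of a code, fast in the kernel -/
def dgK (X i : ℕ) : ℕ := Nat.land (Nat.shiftRight X (Nat.mul 24 i)) 16777215

theorem dgK_eq (X i : ℕ) : dgK X i = dg 24 X i := by
  change (X >>> (24 * i)) &&& (2 ^ 24 - 1) = X / 2 ^ (24 * i) % 2 ^ 24
  rw [Nat.and_two_pow_sub_one_eq_mod, Nat.shiftRight_eq_div_pow]

/-- bit of a mask -/
def bt (m j : ℕ) : Bool := Nat.beq (Nat.land (Nat.shiftRight m j) 1) 1

/-- sign attached to a mask -/
def sg (m j : ℕ) : ZMod 17 := if bt m j = true then -1 else 1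

theorem sg_mul_self (m j : ℕ) : sg m j * sg m j = 1 := by
  unfold sg
  split_ifs <;> ring

/-- check of a diagonal matrix -/
noncomputable def chkD (D m : ℕ) : Bool :=
  allBelow (fun k => allBelow (fun j => Nat.beq (dgK D (Nat.add j (Nat.mul 78 k)))
    (cond (Nat.beq j k) (cond (bt m j) 16 1) 0)) 78) 78

/-- the matrix with a given code -/
def mt (G : ℕ) : Matrix (Fin 78) (Fin 78) (ZMod 17) := mat C G

theorem mt_apply (G : ℕ) (j k : Fin 78) : mt G j k = ((dg 24 G ((j : ℕ) + 78 * (k : ℕ)) : ℕ) : ZMod 17) := rfl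

theorem mat_of_chkD {D m : ℕ} (h : chkD D m = true) :
    mt D = Matrix.diagonal fun j : Fin 78 => sg m j := by
  ext j k
  have h1 := allBelow_spec h k k.2
  have h2 := Nat.eq_of_beq_eq_true (allBelow_spec h1 j j.2)
  rw [dgK_eq] at h2
  rw [mt_apply]
  have h4 : dg 24 D ((j : ℕ) + 78 * (k : ℕ)) = cond (Nat.beq j k) (cond (bt m j) 16 1) 0 := h2
  rw [h4, Matrix.diagonal_apply]
  by_cases hjk : j = k
  · subst hjk
    rw [if_pos rfl, show Nat.beq (j : ℕ) (j : ℕ) = true from Nat.beq_refl _, cond_true]
    unfold sg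
    cases hb : bt m (j : ℕ) with
    | true => rw [cond_true, if_pos rfl]; decide
    | false => rw [cond_false, if_neg (by simp)]; decide
  · rw [if_neg hjk]
    have h5 : Nat.beq (j : ℕ) (k : ℕ) = false := by
      cases h6 : Nat.beq (j : ℕ) (k : ℕ) with
      | false => rfl
      | true => exact absurd (Fin.ext (Nat.eq_of_beq_eq_true h6)) hjk
    rw [h5, cond_false, Nat.cast_zero]

/-- check: no entry is zero -/
noncomputable def chkN (G : ℕ) : Bool :=
  allBelow (fun i => force (dgK G i) fun d => bif Nat.ble 1 d then Nat.ble d 16 else false) 6084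

theorem ne_zero_of_chkN {G : ℕ} (h : chkN G = true) (j k : Fin 78) : mt G j k ≠ 0 := by
  have hlt : (j : ℕ) + 78 * (k : ℕ) < 6084 := by omega
  have h1 := allBelow_spec h _ hlt
  rw [force_eq, dgK_eq] at h1
  rw [mt_apply]
  generalize dg 24 G ((j : ℕ) + 78 * (k : ℕ)) = d at h1
  cases h4 : Nat.ble 1 d with
  | false => rw [h4] at h1; exact absurd h1 (by simp)
  | true =>
    rw [h4, cond_true] at h1
    have h5 : 1 ≤ d := Nat.le_of_ble_eq_true h4
    have h6 : d ≤ 16 := Nat.le_of_ble_eq_true h1
    intro h7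
    rw [ZMod.natCast_eq_zero_iff] at h7
    have := Nat.le_of_dvd (by omega) h7
    omega

/-- masks -/
def ms : List ℕ := [151017726286835650377428, 150930390595317536846518, 291309527183879069981650, 292085529428739697229174, 278579229405102238060094, 226062236374576936211948, 261740778618867382501374, 263704238692033535391530, 221434635919991390601214, 263195239581725991266138]

/-- words -/
def ws : List (List Fi22.Gen) := [
  [.a],
  [.c],
  [.e],
  [.g],
  [.h],
  [.d, .h, .e, .d, .c, .d, .e, .h, .d],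
  [.b, .c, .d, .h, .e, .d, .c, .b, .a, .b, .c, .d, .e, .h, .d, .c, .b],
  [.f, .e, .d, .h, .g, .f, .e, .d, .c, .d, .e, .f, .g, .h, .d, .e, .f],
  [.f, .e, .b, .c, .d, .h, .g, .f, .e, .d, .c, .b, .a, .b, .c, .d, .e, .f, .g, .h, .d, .c, .b, .e, .f],
  [.i, .h, .d, .e, .c, .d, .h, .i, .f, .e, .b, .c, .d, .h, .g, .f, .e, .d, .c, .b, .a, .b, .c, .d, .e, .f, .g, .h, .d, .c, .b, .e, .f, .i, .h, .d, .c, .e, .d, .h, .i]]

/-- the pattern of a coordinate -/
def pat (j : ℕ) : List Bool := ms.map fun m => bt m j

theorem sep : ∀ i < 78, ∀ j < 78, i ≠ j → ∃ m ∈ ms, bt m i ≠ bt m j := by decide +kernel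

theorem ok_D0 : okG C D0 = true := by decide +kernel
theorem eq_D0 : checkEq C (List.map code [.a]) [D0] 0 C.n = true := by decide +kernel
theorem di_D0 : chkD D0 151017726286835650377428 = true := by decide +kernel

theorem ok_D1 : okG C D1 = true := by decide +kernel
theorem eq_D1 : checkEq C (List.map code [.c]) [D1] 0 C.n = true := by decide +kernel
theorem di_D1 : chkD D1 150930390595317536846518 = true := by decide +kernel

theorem ok_D2 : okG C D2 = true := by decide +kernel
theorem eq_D2 : checkEq C (List.map code [.e]) [D2] 0 C.n = true := by decide +kernel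
theorem di_D2 : chkD D2 291309527183879069981650 = true := by decide +kernel

theorem ok_D3 : okG C D3 = true := by decide +kernel
theorem eq_D3 : checkEq C (List.map code [.g]) [D3] 0 C.n = true := by decide +kernel
theorem di_D3 : chkD D3 292085529428739697229174 = true := by decide +kernel

theorem ok_D4 : okG C D4 = true := by decide +kernel
theorem eq_D4 : checkEq C (List.map code [.h]) [D4] 0 C.n = true := by decide +kernel
theorem di_D4 : chkD D4 278579229405102238060094 = true := by decide +kernel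

theorem ok_D5 : okG C D5 = true := by decide +kernel
theorem eq_D5 : checkEq C (List.map code [.d, .h, .e, .d, .c, .d, .e, .h, .d]) [D5] 0 C.n = true := by decide +kernel
theorem di_D5 : chkD D5 226062236374576936211948 = true := by decide +kernel

theorem ok_D6 : okG C D6 = true := by decide +kernel
theorem eq_D6 : checkEq C (List.map code [.b, .c, .d, .h, .e, .d, .c, .b, .a, .b, .c, .d, .e, .h, .d, .c, .b]) [D6] 0 C.n = true := by decide +kernel
theorem di_D6 : chkD D6 261740778618867382501374 = true := by decide +kernel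

theorem ok_D7 : okG C D7 = true := by decide +kernel
theorem eq_D7 : checkEq C (List.map code [.f, .e, .d, .h, .g, .f, .e, .d, .c, .d, .e, .f, .g, .h, .d, .e, .f]) [D7] 0 C.n = true := by decide +kernel
theorem di_D7 : chkD D7 263704238692033535391530 = true := by decide +kernel

theorem ok_D8 : okG C D8 = true := by decide +kernel
theorem eq_D8 : checkEq C (List.map code [.f, .e, .b, .c, .d, .h, .g, .f, .e, .d, .c, .b, .a, .b, .c, .d, .e, .f, .g, .h, .d, .c, .b, .e, .f]) [D8] 0 C.n = true := by decide +kernel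
theorem di_D8 : chkD D8 221434635919991390601214 = true := by decide +kernel

theorem ok_D9 : okG C D9 = true := by decide +kernel
theorem eq_D9 : checkEq C (List.map code [.i, .h, .d, .e, .c, .d, .h, .i, .f, .e, .b, .c, .d, .h, .g, .f, .e, .d, .c, .b, .a, .b, .c, .d, .e, .f, .g, .h, .d, .c, .b, .e, .f, .i, .h, .d, .c, .e, .d, .h, .i]) [D9] 0 C.n = true := by decide +kernel
theorem di_D9 : chkD D9 263195239581725991266138 = true := by decide +kernel


/-- the word with no entry zero -/
def wN : List Fi22.Gen := [.i, .d, .h, .f, .e, .d, .c, .b, .c, .d, .e, .f, .h, .d, .i]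

theorem ok_N : okG C GN = true := by decide +kernel
theorem eq_N : checkEq C (List.map code wN) [GN] 0 C.n = true := by decide +kernel
theorem nz_N : chkN GN = true := by decide +kernel

/-- the representation as matrices -/
noncomputable def ρM : Cfsg.Spor.Fi22 →* Matrix (Fin 78) (Fin 78) (ZMod 17) := (Units.coeHom _).comp rho

theorem mw_mem (w : List Fi22.Gen) : mw w ∈ Set.range ρM := by
  refine ⟨(w.map PresentedGroup.of).prod, ?_⟩
  change ((rho (w.map PresentedGroup.of).prod : GL (Fin 78) (ZMod 17)) : Matrix (Fin 78) (Fin 78) (ZMod 17)) = _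
  rw [map_list_prod, List.map_map]
  have h1 : (rho ∘ PresentedGroup.of : Fi22.Gen → GL (Fin 78) (ZMod 17)) = gl := by
    funext x
    exact rho_of x
  rw [h1, coe_word]

theorem mw_eq_of_check {w : List Fi22.Gen} {G : ℕ} (hG : okG C G = true)
    (h : checkEq C (w.map code) [G] 0 C.n = true) : mw w = mt G := by
  have h1 := prod_eq_of_check good one_lt_p (ok_map w) (w₂ := [G]) (by
    intro g hg
    rw [List.mem_singleton] at hg
    rw [hg]
    exact hG) h
  rw [List.map_cons, List.map_nil, List.prod_singleton] at h1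
  exact h1

/-- the algebra generated by the group -/
noncomputable def Alg : Subalgebra (ZMod 17) (Matrix (Fin 78) (Fin 78) (ZMod 17)) := Algebra.adjoin (ZMod 17) (Set.range ρM)

theorem diag_mem {w : List Fi22.Gen} {D m : ℕ} (hD : okG C D = true) (h : checkEq C (w.map code) [D] 0 C.n = true)
    (hm : chkD D m = true) : (Matrix.diagonal fun j : Fin 78 => sg m j : Matrix (Fin 78) (Fin 78) (ZMod 17)) ∈ Alg := by
  rw [← mat_of_chkD hm, ← mw_eq_of_check hD h]
  exact Algebra.subset_adjoin (mw_mem w)

theorem all_diag : ∀ m ∈ ms, (Matrix.diagonal fun j : Fin 78 => sg m j : Matrix (Fin 78) (Fin 78) (ZMod 17)) ∈ Alg := by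
  intro m hm
  simp only [ms, List.mem_cons, List.not_mem_nil, or_false] at hm
  rcases hm with rfl | rfl | rfl | rfl | rfl | rfl | rfl | rfl | rfl | rfl
  · exact diag_mem ok_D0 eq_D0 di_D0
  · exact diag_mem ok_D1 eq_D1 di_D1
  · exact diag_mem ok_D2 eq_D2 di_D2
  · exact diag_mem ok_D3 eq_D3 di_D3
  · exact diag_mem ok_D4 eq_D4 di_D4
  · exact diag_mem ok_D5 eq_D5 di_D5
  · exact diag_mem ok_D6 eq_D6 di_D6
  · exact diag_mem ok_D7 eq_D7 di_D7
  · exact diag_mem ok_D8 eq_D8 di_D8
  · exact diag_mem ok_D9 eq_D9 di_D9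

/-- the diagonal matrices in the algebra -/
noncomputable def B : Subalgebra (ZMod 17) (Fin 78 → ZMod 17) := Alg.comap (Matrix.diagonalAlgHom (ZMod 17))

theorem mem_B (f : Fin 78 → ZMod 17) : f ∈ B ↔ Matrix.diagonal f ∈ Alg := Iff.rfl

theorem single_mem_B (i : Fin 78) : (Pi.single i 1 : Fin 78 → ZMod 17) ∈ B := by
  have h1 : ∀ m ∈ ms, (fun j : Fin 78 => 1 + sg m i * sg m j : Fin 78 → ZMod 17) ∈ B := by
    intro m hm
    have h2 : (fun j : Fin 78 => 1 + sg m i * sg m j : Fin 78 → ZMod 17) =
        1 + sg m i • (fun j : Fin 78 => sg m j : Fin 78 → ZMod 17) := by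
      funext j
      rfl
    rw [h2]
    exact B.add_mem B.one_mem (B.smul_mem ((mem_B _).2 (all_diag m hm)) _)
  have h2 : ((ms.map fun m => (fun j : Fin 78 => 1 + sg m i * sg m j : Fin 78 → ZMod 17)).prod) ∈ B := by
    apply Subalgebra.list_prod_mem
    intro x hx
    obtain ⟨m, hm, rfl⟩ := List.mem_map.1 hx
    exact h1 m hm
  have h3 : ((ms.map fun m => (fun j : Fin 78 => 1 + sg m i * sg m j : Fin 78 → ZMod 17)).prod) =
      (2 : ZMod 17) ^ 10 • (Pi.single i 1 : Fin 78 → ZMod 17) := by
    have key : ∀ (L : List ℕ) (j : Fin 78), ((L.map fun m => (fun j : Fin 78 => 1 + sg m i * sg m j : Fin 78 → ZMod 17)).prod) j =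
        (L.map fun m => 1 + sg m i * sg m j).prod := by
      intro L j
      induction L with
      | nil => rfl
      | cons m L ih => rw [List.map_cons, List.prod_cons, Pi.mul_apply, ih, List.map_cons, List.prod_cons]
    funext j
    rw [key, Pi.smul_apply, Pi.single_apply]
    by_cases hji : j = i
    · subst hji
      rw [if_pos rfl, smul_eq_mul, mul_one]
      have h5 : ∀ L : List ℕ, (L.map fun m => 1 + sg m j * sg m j).prod = (2 : ZMod 17) ^ L.length := by
        intro L
        induction L with
        | nil => rfl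
        | cons m L ih => rw [List.map_cons, List.prod_cons, ih, sg_mul_self, List.length_cons, pow_succ]; ring
      rw [h5]
      rfl
    · rw [if_neg hji, smul_zero]
      obtain ⟨m, hm, hb⟩ := sep i i.2 j j.2 fun h => hji (Fin.ext h).symm
      apply List.prod_eq_zero
      rw [List.mem_map]
      refine ⟨m, hm, ?_⟩
      unfold sg
      cases h1 : bt m (i : ℕ) <;> cases h2 : bt m (j : ℕ) <;> rw [h1, h2] at hb <;> simp at hb ⊢
  rw [h3] at h2
  have h4 := B.smul_mem h2 ((2 : ZMod 17) ^ 10)⁻¹
  rw [smul_smul, inv_mul_cancel₀ (by decide), one_smul] at h4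
  exact h4

theorem alg_eq_top : Alg = ⊤ := by
  rw [eq_top_iff]
  intro X _
  have hN : mt GN ∈ Alg := by
    rw [← mw_eq_of_check (w := wN) ok_N eq_N]
    exact Algebra.subset_adjoin (mw_mem wN)
  rw [Matrix.matrix_eq_sum_single X]
  refine Subalgebra.sum_mem _ fun i _ => Subalgebra.sum_mem _ fun j _ => ?_
  have hi : ∀ i : Fin 78, Matrix.single i i (1 : ZMod 17) ∈ Alg := by
    intro i
    have h1 := (mem_B _).1 (single_mem_B i)
    rwa [Matrix.diagonal_single] at h1
  have h1 : Matrix.single i i (1 : ZMod 17) * mt GN * Matrix.single j j (1 : ZMod 17) ∈ Alg :=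
    Alg.mul_mem (Alg.mul_mem (hi i) hN) (hi j)
  have h2 : Matrix.single i i (1 : ZMod 17) * mt GN * Matrix.single j j (1 : ZMod 17) =
      Matrix.single i j (mt GN i j) := by
    rw [Matrix.single_mul_mul_single, one_mul, mul_one]
  rw [h2] at h1
  have h3 := Alg.smul_mem h1 (X i j * (mt GN i j)⁻¹)
  rw [Matrix.smul_single, smul_eq_mul, mul_assoc, inv_mul_cancel₀ (ne_zero_of_chkN nz_N i j), mul_one] at h3
  exact h3

/-- **The image spans everything.** -/
theorem span_eq_top : Submodule.span (ZMod 17) (Set.range ρM) = ⊤ := by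
  have h1 := Algebra.adjoin_eq_span (ZMod 17) (Set.range ρM)
  have h2 : (Submonoid.closure (Set.range ρM) : Set (Matrix (Fin 78) (Fin 78) (ZMod 17))) = Set.range ρM := by
    have h3 : Set.range ρM = ((MonoidHom.mrange ρM : Submonoid _) : Set _) := rfl
    rw [h3, Submonoid.closure_eq]
  rw [h2] at h1
  rw [← h1]
  have h4 : Algebra.adjoin (ZMod 17) (Set.range ρM) = ⊤ := alg_eq_top
  rw [h4, Algebra.top_toSubmodule]

end Cfsg.Agent.H481.EP.FiSpan
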