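import Cfsg.Agent.H715.LiftDeg

/-!
# Lifting absolutely irreducible representations of `p'`-groups: the exact degree (helper481)

`exists_irr_eq_of_matrix` : `Y` a finite group of order prime to `p`, `ρ` a representation of degree `n` over a finite
field of characteristic `p` whose image spans the algebra of all matrices. Then `Y` has an irreducible complex character
of degree `n`. (Extends `H715.LiftDeg`.)
-/

set_option autoImplicit false

namespace Cfsg.Agent.H481.EP.LiftEq

open Module Polynomial Cfsg.Agent.Characters Cfsg.Agent.H715.LiftDeg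

section main

variable {Y : Type*} [Group Y] [Fintype Y] [DecidableEq Y] {k : Type*} [Field k]

theorem sum_PP (red : Cfsg.AlgInt →+* k) {n : ℕ} (ρ : Y →* Matrix (Fin n) (Fin n) k)
    [Fintype (Cfsg.IrrCharacter Y)] :
    ∑ χ : Cfsg.IrrCharacter Y, PP red ρ χ.2 = (Nat.card Y : k) • (1 : Matrix (Fin n) (Fin n) k) := by
  have e1 : ∑ χ : Cfsg.IrrCharacter Y, PP red ρ χ.2 =
      ∑ u : Y, red (∑ χ : Cfsg.IrrCharacter Y, ai χ.2 1 * ai χ.2 u⁻¹) • ρ u := by
    simp only [PP]
    rw [Finset.sum_comm]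
    refine Finset.sum_congr rfl fun u _ => ?_
    rw [map_sum, Finset.sum_smul]
  have e2 : ∀ u : Y, (∑ χ : Cfsg.IrrCharacter Y, ai χ.2 1 * ai χ.2 u⁻¹) =
      if u = 1 then (Nat.card Y : Cfsg.AlgInt) else 0 := by
    intro u
    apply Subtype.ext
    have h1 := Counting.sum_irr_one_mul (G := Y) u⁻¹
    have h2 : ((∑ χ : Cfsg.IrrCharacter Y, ai χ.2 1 * ai χ.2 u⁻¹ : Cfsg.AlgInt) : ℂ) =
        ∑ χ : Cfsg.IrrCharacter Y, (χ : Y → ℂ) 1 * (χ : Y → ℂ) u⁻¹ := by
      push_cast
      rfl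
    rw [h2, h1]
    by_cases hu : u = 1
    · simp [hu]
    · simp [hu]
  rw [e1]
  simp only [e2]
  rw [Finset.sum_eq_single (1 : Y)]
  · rw [if_pos rfl, map_natCast, map_one]
  · intro u _ hu
    rw [if_neg hu, map_zero, zero_smul]
  · exact fun h => absurd (Finset.mem_univ _) h

theorem PP_comm (red : Cfsg.AlgInt →+* k) {n : ℕ} (ρ : Y →* Matrix (Fin n) (Fin n) k) {χ : Y → ℂ}
    (hχ : Cfsg.IsIrrCharacter Y χ) (g : Y) : PP red ρ hχ * ρ g = ρ g * PP red ρ hχ := by
  have hcl : ∀ g x : Y, ai hχ (g * x * g⁻¹) = ai hχ x := by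
    intro g x
    exact Subtype.ext (Core.isIrr_isClassFunction hχ x g)
  unfold PP
  rw [Finset.sum_mul, Finset.mul_sum]
  refine Fintype.sum_equiv ((Equiv.mulLeft g⁻¹).trans (Equiv.mulRight g)) _ _ fun u => ?_
  show _ = ρ g * red (ai hχ 1 * ai hχ (g⁻¹ * u * g)⁻¹) • ρ (g⁻¹ * u * g)
  rw [smul_mul_assoc, mul_smul_comm, ← map_mul, ← map_mul]
  have h1 : ai hχ (g⁻¹ * u * g)⁻¹ = ai hχ u⁻¹ := by
    rw [← hcl g⁻¹ u⁻¹]
    congr 1
    group
  have h2 : g * (g⁻¹ * u * g) = u * g := by group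
  rw [h1, h2]

theorem scalar_of_comm_all {n : ℕ} {X : Matrix (Fin n) (Fin n) k}
    (h : ∀ M : Matrix (Fin n) (Fin n) k, X * M = M * X) : ∃ c : k, X = c • 1 := by
  have h1 : X ∈ Set.range (Matrix.scalar (Fin n)) :=
    Matrix.mem_range_scalar_of_commute_single fun i j _ => (h _).symm
  obtain ⟨c, rfl⟩ := h1
  refine ⟨c, ?_⟩
  rw [Matrix.scalar_apply, Matrix.smul_one_eq_diagonal]

/-- **The exact degree.** -/
theorem exists_irr_eq_aux (red : Cfsg.AlgInt →+* k) (hcY : (Nat.card Y : k) ≠ 0) {n : ℕ} (hn : 0 < n)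
    (ρ : Y →* Matrix (Fin n) (Fin n) k) (hρ : Submodule.span k (Set.range ρ) = ⊤) :
    ∃ χ : Y → ℂ, Cfsg.IsIrrCharacter Y χ ∧ χ 1 = (n : ℂ) := by
  have := Core.finite_irr (G := Y)
  have := Fintype.ofFinite (Cfsg.IrrCharacter Y)
  have hne : Nonempty (Fin n) := ⟨⟨0, hn⟩⟩
  obtain ⟨χ, hP⟩ : ∃ χ : Cfsg.IrrCharacter Y, PP red ρ χ.2 ≠ 0 := by
    by_contra hcon
    push Not at hcon
    have h1 := sum_PP red ρ
    rw [Finset.sum_eq_zero fun χ _ => hcon χ] at h1
    rcases smul_eq_zero.1 h1.symm with h2 | h2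
    · exact hcY h2
    · exact one_ne_zero h2
  obtain ⟨χ, hχ⟩ := χ
  replace hP : PP red ρ hχ ≠ 0 := hP
  obtain ⟨d, -, hd⟩ := Core.isIrr_apply_one hχ
  have hle := degree_le red hcY ρ hχ hP hd
  refine ⟨χ, hχ, ?_⟩
  have hge : n ≤ d := by
    -- `PP` is a scalar
    obtain ⟨c, hc⟩ : ∃ c : k, PP red ρ hχ = c • 1 := by
      refine scalar_of_comm_all fun M => ?_
      have hM : M ∈ Submodule.span k (Set.range ρ) := hρ ▸ Submodule.mem_top
      induction hM using Submodule.span_induction with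
      | mem x hx =>
        obtain ⟨g, rfl⟩ := hx
        exact PP_comm red ρ hχ g
      | zero => rw [mul_zero, zero_mul]
      | add x y _ _ h1 h2 => rw [mul_add, add_mul, h1, h2]
      | smul a x _ h1 => rw [mul_smul_comm, smul_mul_assoc, h1]
    have hc0 : c ≠ 0 := by
      rintro rfl
      exact hP (by rw [hc, zero_smul])
    have hinj : Function.Injective (algebraMap Cfsg.AlgInt ℂ) := Subtype.val_injective
    have htr := finrank_transfer (algebraMap Cfsg.AlgInt ℂ) hinj red (NM hχ) (Nat.card Y : Cfsg.AlgInt)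
      (NM_sq hχ) (by
        rw [map_natCast]
        exact Nat.cast_ne_zero.2 Nat.card_pos.ne') (by rw [map_natCast]; exact hcY)
    rw [finrank_complex hχ hd] at htr
    let Φ : (Y → k) →ₗ[k] Matrix (Fin n) (Fin n) k :=
      ∑ u : Y, (LinearMap.proj u : (Y → k) →ₗ[k] k).smulRight (ρ u)
    have hΦ : ∀ f, Φ f = ∑ u : Y, f u • ρ u := by
      intro f
      simp only [Φ, LinearMap.sum_apply, LinearMap.smulRight_apply, LinearMap.proj_apply]
    set R := LinearMap.range (Matrix.toLin' ((NM hχ).map red)) with hR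
    have hmap : Submodule.map Φ R = ⊤ := by
      rw [eq_top_iff, ← hρ, Submodule.span_le]
      rintro _ ⟨y, rfl⟩
      refine ⟨c⁻¹ • Matrix.toLin' ((NM hχ).map red) (Pi.single y 1), R.smul_mem _ ⟨_, rfl⟩, ?_⟩
      rw [map_smul, hΦ]
      have h1 : ∀ u, Matrix.toLin' ((NM hχ).map red) (Pi.single y 1) u = red (ai hχ 1 * ai hχ (y * u⁻¹)) := by
        intro u
        rw [Matrix.toLin'_apply, Matrix.mulVec_single_one]
        rfl
      have h2 : ∑ u : Y, Matrix.toLin' ((NM hχ).map red) (Pi.single y 1) u • ρ u = PP red ρ hχ * ρ y := by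
        unfold PP
        rw [Finset.sum_mul]
        refine Fintype.sum_equiv (Equiv.mulRight y⁻¹) _ _ fun u => ?_
        show _ = red (ai hχ 1 * ai hχ (u * y⁻¹)⁻¹) • ρ (u * y⁻¹) * ρ y
        rw [h1, smul_mul_assoc, ← map_mul, inv_mul_cancel_right]
        congr 4
        group
      rw [h2, hc, smul_mul_assoc, one_mul, smul_smul, inv_mul_cancel₀ hc0, one_smul]
    have h3 : finrank k (Submodule.map Φ R) ≤ finrank k R := Submodule.finrank_map_le Φ R
    rw [hmap, finrank_top, Module.finrank_matrix, Module.finrank_self, Fintype.card_fin, ← htr] at h3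
    have h4 : n ^ 2 ≤ d ^ 2 := by
      calc n ^ 2 = n * n * 1 := by ring
        _ ≤ d ^ 2 := h3
    exact (Nat.pow_le_pow_iff_left two_ne_zero).1 h4
  rw [hd, le_antisymm hle hge]

end main

/-- **Lifting an absolutely irreducible representation of a `p'`-group.** -/
theorem exists_irr_eq_of_matrix {Y : Type*} [Group Y] [Finite Y] {F : Type*} [Field F] [Finite F] {p : ℕ}
    [hp : Fact p.Prime] [CharP F p] (hY : ¬ p ∣ Nat.card Y) {n : ℕ} (hn : 0 < n)
    (ρ : Y →* Matrix (Fin n) (Fin n) F) (hρ : Submodule.span F (Set.range ρ) = ⊤) :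
    ∃ χ : Y → ℂ, Cfsg.IsIrrCharacter Y χ ∧ χ 1 = (n : ℂ) := by
  classical
  have := Fintype.ofFinite Y
  obtain ⟨k, _, red, hcl, hchar⟩ := exists_residue hp.out
  have hcY : (Nat.card Y : k) ≠ 0 := by
    rw [Ne, CharP.cast_eq_zero_iff k p]
    exact hY
  let _ : Algebra (ZMod p) k := ZMod.algebra _ p
  let _ : Algebra (ZMod p) F := ZMod.algebra _ p
  have : Module.Finite (ZMod p) F := Module.Finite.of_finite
  let ι : F →ₐ[ZMod p] k := IsAlgClosed.lift
  let ρ' : Y →* Matrix (Fin n) (Fin n) k :=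
    { toFun := fun y => (ρ y).map ι
      map_one' := by rw [map_one, Matrix.map_one _ (map_zero ι) (map_one ι)]
      map_mul' := fun a b => by rw [map_mul]; exact Matrix.map_mul (f := ι.toRingHom) }
  refine exists_irr_eq_aux red hcY hn ρ' ?_
  have h1 : ∀ M : Matrix (Fin n) (Fin n) F, M.map ι ∈ Submodule.span k (Set.range ρ') := by
    intro M
    have hM : M ∈ Submodule.span F (Set.range ρ) := hρ ▸ Submodule.mem_top
    induction hM using Submodule.span_induction with
    | mem x hx =>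
      obtain ⟨g, rfl⟩ := hx
      exact Submodule.subset_span ⟨g, rfl⟩
    | zero =>
      have h2 : (0 : Matrix (Fin n) (Fin n) F).map ι = 0 := Matrix.map_zero _ (map_zero ι)
      rw [h2]
      exact Submodule.zero_mem _
    | add x y _ _ h1 h2 =>
      have h3 : (x + y).map ι = x.map ι + y.map ι := Matrix.map_add _ (map_add ι) x y
      rw [h3]
      exact Submodule.add_mem _ h1 h2
    | smul a x _ h1 =>
      have h3 : (a • x).map ι = ι a • x.map ι := by
        ext i j
        simp [Matrix.map_apply, Matrix.smul_apply]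
      rw [h3]
      exact Submodule.smul_mem _ _ h1
  rw [eq_top_iff]
  intro X _
  rw [Matrix.matrix_eq_sum_single X]
  refine Submodule.sum_mem _ fun i _ => Submodule.sum_mem _ fun j _ => ?_
  have h2 : Matrix.single i j (X i j) = X i j • (Matrix.single i j (1 : F)).map ι := by
    ext a b
    rw [Matrix.smul_apply, Matrix.map_apply, Matrix.single_apply, Matrix.single_apply]
    by_cases h : i = a ∧ j = b
    · rw [if_pos h, if_pos h, map_one, smul_eq_mul, mul_one]
    · rw [if_neg h, if_neg h, map_zero, smul_zero]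
  rw [h2]
  exact Submodule.smul_mem _ _ (h1 _)

end Cfsg.Agent.H481.EP.LiftEq
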