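import Cfsg.Agent.H892.EP.Rows
import Cfsg.Agent.H142.EP.T4
import Cfsg.Agent.H493.RatB.WitS
import Cfsg.Agent.H968.Imc.FiTwentyTwo
import Cfsg.Agent.H968.Imc.RankThreeRat
import Cfsg.Agent.H729.FiTTRank
import Cfsg.Agent.H835.Five
import Cfsg.Agent.H661.SporFi22
import Cfsg.Agent.H481.EP.LiftEq
import Cfsg.Agent.H481.EP.FiSpan

/-!
# S4929: the row of the Fischer group `Fi₂₂` (helper481)

* `p = 3, 13` : `3080`, the other constituent `429 = 3·11·13` of the rank 3 action on the transpositions has degree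
  divisible by `p`, and `p` divides the number `3510` of the points;
* `p = 11` : `13650`, the rank 3 action on `14080` points, the other constituent is `429` again;
* `p = 7` : cyclic Sylow subgroups, real elements;
* `p = 5` : the degree `78` (`exists_78`) and `C_G(P) = P` for a Sylow `5`-subgroup `P`.
-/

set_option autoImplicit false

open Cfsg Subgroup Cfsg.Agent.Characters.Core

namespace Cfsg.Agent.H481.EP

open Cfsg.Agent.H892.EP Cfsg.Agent.H493.RatB Cfsg.Agent.H145.BR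

universe u v

/-- a permutation character `1 + χ₁ + χ₂` of degree divisible by `p`, with `p ∣ χ₁(1)` and `χ₂(1)` even -/
theorem evAt_of_pair {G : Type u} [Group G] [Finite G] {p : ℕ} [hp : Fact p.Prime] {X : Type v} [Finite X]
    [MulAction G X] [MulAction.IsPretransitive G X] [Nonempty X] (hd : p ∣ Nat.card X) {χ₁ χ₂ : IrrCharacter G}
    (h : ∀ g : G, (Nat.card (MulAction.fixedBy X g) : ℂ) = 1 + (χ₁ : G → ℂ) g + (χ₂ : G → ℂ) g)
    (h1 : p ∣ charDegree (χ₁ : G → ℂ)) (h2 : 2 ∣ charDegree (χ₂ : G → ℂ)) : EvAt p G := by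
  classical
  have := Fintype.ofFinite G
  intro M hM
  obtain ⟨ξ, h3, h4, h5, h6⟩ := exists_of_dvd (G := G) hM (X := X) hd
  have e : permC G X = (fun _ => (1 : ℂ)) + ((χ₁ : G → ℂ) + (χ₂ : G → ℂ)) := by
    funext g
    show (Nat.card (MulAction.fixedBy X g) : ℂ) = _
    rw [h g]
    simp only [Pi.add_apply]
    ring
  by_cases h7 : χ₂ = ξ
  · exact ⟨χ₂, h7 ▸ h3, h2⟩
  exfalso
  apply h6
  have h8 : classInner (fun _ : G => (1 : ℂ)) (ξ : G → ℂ) = 0 :=
    classInner_irr_ne (H893.Sd.one G).2 ξ.2 (fun h => h4 h.symm)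
  have h9 : classInner (χ₁ : G → ℂ) (ξ : G → ℂ) = 0 := by
    refine classInner_irr_ne χ₁.2 ξ.2 fun h => h5 ?_
    rw [← h]
    exact h1
  have h10 : classInner (χ₂ : G → ℂ) (ξ : G → ℂ) = 0 :=
    classInner_irr_ne χ₂.2 ξ.2 fun h => h7 (Subtype.ext h)
  rw [e, classInner_add_left, classInner_add_left, h8, h9, h10]
  ring

namespace Fi22Row

open Cfsg.Spor (Fi22)

theorem card_eq : Nat.card Fi22 = 64561751654400 :=
  (Cfsg.Agent.LThreeFi22.Inst.ctx (MulEquiv.refl Fi22)).card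

instance finite : Finite Fi22 := Nat.finite_of_card_ne_zero (by rw [card_eq]; norm_num)

/-- **`Fi₂₂` has an irreducible character of degree 78.** -/
theorem exists_78 : ∃ χ : IrrCharacter Fi22, charDegree (χ : Fi22 → ℂ) = 78 := by
  have h17 : Fact (Nat.Prime 17) := ⟨by norm_num⟩
  obtain ⟨χ, h1, h2⟩ := LiftEq.exists_irr_eq_of_matrix (p := 17) (by rw [card_eq]; norm_num) (by norm_num)
    FiSpan.ρM FiSpan.span_eq_top
  exact ⟨⟨χ, h1⟩, Cfsg.Agent.Blocks.Basic.charDegree_of_eq h2⟩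

/-- `p = 3, 13` -/
theorem ev_3510 {p : ℕ} [Fact p.Prime] (h1 : p ∣ 3510) (h2 : p ∣ 429) : EvAt p Fi22 := by
  have C := Cfsg.Agent.LThreeFi22.Inst.ctx (MulEquiv.refl Fi22)
  have hR := H870.IMFi22.r3 C
  let _ := H870.IMFi22.act C
  have hX : Finite ↥(KFacts.FiTT.TK (MulEquiv.refl Fi22)) :=
    Nat.finite_of_card_ne_zero (by rw [hR.cardn]; norm_num)
  have htr := hR.trans
  have hne : Nonempty ↥(KFacts.FiTT.TK (MulEquiv.refl Fi22)) := by
    have h4 : 0 < Nat.card ↥(KFacts.FiTT.TK (MulEquiv.refl Fi22)) := by rw [hR.cardn]; norm_num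
    exact (Nat.card_pos_iff.1 h4).1
  obtain ⟨χ₁, χ₂, -, -, h3, h4, h5⟩ := H968.Imc.exists_degrees hR 429 3080 (by decide +kernel)
  exact evAt_of_pair (by rw [hR.cardn]; exact h1) h3 (by rw [h4]; exact h2) (by rw [h5]; norm_num)

/-- `p = 11` -/
theorem ev_11 : EvAt 11 Fi22 := by
  have : Fact (Nat.Prime 11) := ⟨by norm_num⟩
  obtain ⟨χ₁, χ₂, h1, h2, h3⟩ := H729.FiTTRank.exists_irr
  have h4 : charDegree (χ₁ : Fi22 → ℂ) = 429 :=
    Cfsg.Agent.Blocks.Basic.charDegree_of_eq (by rw [h1]; norm_num)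
  have h5 : charDegree (χ₂ : Fi22 → ℂ) = 13650 :=
    Cfsg.Agent.Blocks.Basic.charDegree_of_eq (by rw [h2]; norm_num)
  have h6 : Nat.card (Fi22 ⧸ Cfsg.Agent.Fischer.Fi22Sub.H) = 14080 := Cfsg.Agent.Fischer.Fi22Sub.main.1
  exact evAt_of_pair (X := Fi22 ⧸ Cfsg.Agent.Fischer.Fi22Sub.H) (by rw [h6]; norm_num) h3 (by rw [h4]; norm_num)
    (by rw [h5]; norm_num)

/-- `p = 7` -/
theorem ev_7 : EvAt 7 Fi22 := by
  have : Fact (Nat.Prime 7) := ⟨by norm_num⟩
  obtain ⟨y, r, hy, -, hr⟩ := H661.Spor.Fi22.hasReal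
  refine evAt_of_real_cyclic (by norm_num) (fun P => ?_) hy (isConj_iff.2 ⟨r, hr⟩)
  obtain ⟨k, hk⟩ := P.isPGroup'.exists_card_eq
  have h1 : 7 ^ k ∣ 64561751654400 := by
    rw [← hk, ← card_eq]
    exact Subgroup.card_subgroup_dvd_card _
  have h2 : k < 2 := by
    by_contra hk2
    exact absurd ((pow_dvd_pow 7 (not_lt.1 hk2)).trans h1) (by norm_num)
  interval_cases k
  · have := (Nat.card_eq_one_iff_unique.1 hk).1
    exact isCyclic_of_subsingleton
  · exact isCyclic_of_prime_card (by rw [hk, pow_one])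

/-! ### `p = 5` -/

theorem perm_five : ∀ σ τ : Equiv.Perm (Fin 5), τ ^ 5 = 1 → τ ≠ 1 → σ * τ = τ * σ → σ ^ 5 = 1 := by decide +kernel

theorem card_sylow (P : Sylow 5 Fi22) : Nat.card (P : Subgroup Fi22) = 25 := by
  have : Fact (Nat.Prime 5) := ⟨by norm_num⟩
  rw [P.card_eq_multiplicity, card_eq]
  have h1 : (64561751654400 : ℕ) = 5 ^ 2 * 2582470066176 := by norm_num
  rw [h1, Nat.factorization_mul (by norm_num) (by norm_num), Nat.Prime.factorization_pow (by norm_num),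
    Finsupp.add_apply, Finsupp.single_eq_same, Nat.factorization_eq_zero_of_not_dvd (by norm_num)]
  norm_num

open Cfsg.Agent.LThreeFi22 in
/-- **the centralizer of a Sylow 5-subgroup** -/
theorem cent_sylow (P : Sylow 5 Fi22) :
    ∀ x ∈ centralizer ((P : Subgroup Fi22) : Set Fi22), x ^ 5 = 1 := by
  have h5 : Fact (Nat.Prime 5) := ⟨by norm_num⟩
  have I := Cfsg.Agent.H836.inv_of_iso (MulEquiv.refl Fi22)
  have hP := card_sylow P
  have hab : IsMulCommutative (P : Subgroup Fi22) :=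
    IsPGroup.isMulCommutative_of_card_eq_prime_sq (p := 5) (by rw [hP]; norm_num)
  obtain ⟨⟨u, huP⟩, hu⟩ := exists_prime_orderOf_dvd_card' (G := (P : Subgroup Fi22)) 5 (by rw [hP]; norm_num)
  rw [Subgroup.orderOf_mk] at hu
  have hu5 : u ^ 5 = 1 := by rw [← hu, pow_orderOf_eq_one]
  have hu1 : u ≠ 1 := by
    rintro rfl
    rw [orderOf_one] at hu
    norm_num at hu
  obtain ⟨f, hf, hS, hcl⟩ := Cfsg.Agent.H835.Five.exists_sym I.ctx hu5 hu1
  have hle : f.range ≤ centralizer ({u} : Set Fi22) := by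
    rw [← hcl, closure_le]
    intro t ht
    exact mem_centralizer_singleton_iff.2 ht.2.symm
  have hn : ∀ g ∈ centralizer ({u} : Set Fi22), ∀ p : Equiv.Perm (Fin 5), p.IsSwap →
      ∃ q : Equiv.Perm (Fin 5), q.IsSwap ∧ g * f p * g⁻¹ = f q := fun g hg =>
    Cfsg.Agent.H835.Five.norm_hyp I hS g (by
      rw [← Cfsg.Agent.H836.Main.centralizer_zpowers] at hg
      exact centralizer_le_normalizer _ hg)
  have hZ : Nat.card ↥(centralizer ({u} : Set Fi22) ⊓ centralizer (f.range : Set Fi22)) = 5 := by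
    have h1 := Cfsg.Agent.H835.Five.card_cz I hu5 hu1
    have h2 : centralizer (f.range : Set Fi22) = centralizer (Fx (KFacts.FiTT.TK (MulEquiv.refl Fi22)) u) := by
      rw [← hcl, centralizer_closure]
    rw [h2]
    exact h1
  set Z := centralizer ({u} : Set Fi22) ⊓ centralizer (f.range : Set Fi22) with hZdef
  have hZ5 : ∀ c ∈ Z, c ^ 5 = 1 := by
    intro c hc
    have h1 : (⟨c, hc⟩ : Z) ^ Nat.card Z = 1 := pow_card_eq_one'
    rw [hZ] at h1
    exact congrArg Subtype.val h1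
  have hZc : ∀ c ∈ Z, ∀ c' ∈ Z, c * c' = c' * c := by
    have : IsCyclic Z := isCyclic_of_prime_card hZ
    intro c hc c' hc'
    exact congrArg Subtype.val ((IsCyclic.isMulCommutative (α := Z)).is_comm.comm ⟨c, hc⟩ ⟨c', hc'⟩)
  have hZf : ∀ c ∈ Z, ∀ σ : Equiv.Perm (Fin 5), c * f σ = f σ * c := by
    intro c hc σ
    exact (mem_centralizer_iff.1 hc.2 _ ⟨σ, rfl⟩).symm
  have hPu : ∀ g ∈ (P : Subgroup Fi22), g ∈ centralizer ({u} : Set Fi22) := by
    intro g hg
    rw [mem_centralizer_singleton_iff]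
    exact congrArg Subtype.val (hab.is_comm.comm ⟨g, hg⟩ ⟨u, huP⟩)
  -- an element of `P` outside of `Z`
  obtain ⟨v, hvP, hvZ⟩ : ∃ v ∈ (P : Subgroup Fi22), v ∉ Z := by
    by_contra hcon
    push Not at hcon
    have h1 : Nat.card (P : Subgroup Fi22) ≤ Nat.card Z := Nat.card_mono (Set.toFinite _) hcon
    rw [hP, hZ] at h1
    norm_num at h1
  obtain ⟨c, hc, τ, rfl⟩ := Cfsg.Agent.H835.SymFive.exists_mul f hf hle hn (hPu v hvP)
  have hτ1 : τ ≠ 1 := by
    rintro rfl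
    rw [map_one, mul_one] at hvZ
    exact hvZ hc
  have hτ5 : τ ^ 5 = 1 := by
    apply Cfsg.Agent.H835.SymFive.five_torsion
    apply hf
    have h1 : (c * f τ) ^ 25 = 1 := by
      have h2 : (⟨c * f τ, hvP⟩ : (P : Subgroup Fi22)) ^ Nat.card (P : Subgroup Fi22) = 1 := pow_card_eq_one'
      rw [hP] at h2
      exact congrArg Subtype.val h2
    rw [Commute.mul_pow (hZf c hc τ), show (25 : ℕ) = 5 * 5 from rfl, pow_mul, hZ5 c hc, one_pow, one_mul] at h1
    rw [map_pow, map_one, show (25 : ℕ) = 5 * 5 from rfl]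
    exact h1
  intro x hx
  have hxu : x ∈ centralizer ({u} : Set Fi22) := by
    rw [mem_centralizer_singleton_iff]
    exact (mem_centralizer_iff.1 hx u huP).symm
  have hxv := mem_centralizer_iff.1 hx _ hvP
  obtain ⟨c', hc', σ, rfl⟩ := Cfsg.Agent.H835.SymFive.exists_mul f hf hle hn hxu
  have hστ : σ * τ = τ * σ := by
    apply hf
    rw [map_mul, map_mul]
    have h1 : c * f τ * (c' * f σ) = c * c' * (f τ * f σ) := by
      rw [mul_assoc, ← mul_assoc (f τ), ← hZf c' hc' τ]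
      group
    have h2 : c' * f σ * (c * f τ) = c * c' * (f σ * f τ) := by
      rw [mul_assoc, ← mul_assoc (f σ), ← hZf c hc σ, hZc c hc c' hc']
      group
    rw [h1, h2] at hxv
    exact (mul_left_cancel hxv).symm
  have hσ := perm_five σ τ hτ5 hτ1 hστ
  rw [Commute.mul_pow (hZf c' hc' σ), hZ5 c' hc', ← map_pow, hσ, map_one, one_mul]

theorem ev_5 : EvAt 5 Fi22 := by
  have h5 : Fact (Nat.Prime 5) := ⟨by norm_num⟩
  obtain ⟨χ, hχ⟩ := exists_78
  obtain ⟨P⟩ : Nonempty (Sylow 5 Fi22) := inferInstance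
  exact Cfsg.Agent.H142.EP.evAt_of_centralizer P (fun x hx => ⟨1, by rw [pow_one]; exact cent_sylow P x hx⟩) χ
    (by rw [hχ]; norm_num) (by rw [hχ]; norm_num)

theorem ev : Ev Fi22 := by
  intro p hp hp2 hd
  have hpF : Fact p.Prime := ⟨hp⟩
  rw [card_eq, show (64561751654400 : ℕ) = 2 ^ 17 * 3 ^ 9 * 5 ^ 2 * 7 * 11 * 13 by norm_num] at hd
  have h : p = 2 ∨ p = 3 ∨ p = 5 ∨ p = 7 ∨ p = 11 ∨ p = 13 := by
    have hq : ∀ {q k : ℕ}, q.Prime → p ∣ q ^ k → p = q := fun hq h =>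
      (Nat.prime_dvd_prime_iff_eq hp hq).1 (hp.dvd_of_dvd_pow h)
    rcases (Nat.Prime.dvd_mul hp).1 hd with h | h
    · rcases (Nat.Prime.dvd_mul hp).1 h with h | h
      · rcases (Nat.Prime.dvd_mul hp).1 h with h | h
        · rcases (Nat.Prime.dvd_mul hp).1 h with h | h
          · rcases (Nat.Prime.dvd_mul hp).1 h with h | h
            · exact Or.inl (hq Nat.prime_two h)
            · exact Or.inr (Or.inl (hq Nat.prime_three h))
          · exact Or.inr (Or.inr (Or.inl (hq Nat.prime_five h)))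
        · exact Or.inr (Or.inr (Or.inr (Or.inl ((Nat.prime_dvd_prime_iff_eq hp (by norm_num)).1 h))))
      · exact Or.inr (Or.inr (Or.inr (Or.inr (Or.inl ((Nat.prime_dvd_prime_iff_eq hp (by norm_num)).1 h)))))
    · exact Or.inr (Or.inr (Or.inr (Or.inr (Or.inr ((Nat.prime_dvd_prime_iff_eq hp (by norm_num)).1 h)))))
  rcases h with rfl | rfl | rfl | rfl | rfl | rfl
  · exact absurd rfl hp2
  · exact ev_3510 (by norm_num) (by norm_num)
  · exact ev_5
  · exact ev_7
  · exact ev_11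
  · exact ev_3510 (by norm_num) (by norm_num)

end Fi22Row

/-- **The row of `Fi₂₂`.** -/
theorem row_fi22 : SpRow fun K => Spor.IsoFi22 K := by
  intro K _ _ _ h
  obtain ⟨e⟩ := h
  exact Fi22Row.ev.tr e.symm

end Cfsg.Agent.H481.EP
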