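import Cfsg.Agent.H481.EP.FiData

/-!
Kernel check of the spider relation.
-/

set_option autoImplicit false

namespace Cfsg.Agent.H481.EP.FiRelB

open Cfsg.Agent.Lib.PackMat Cfsg.Agent.H481.EP.FiData

theorem spider : checkScalar C [Gd, Gc, Gb, Gd, Ge, Gf, Gd, Gh, Gi, Gd, Gc, Gb, Gd, Ge, Gf, Gd, Gh, Gi, Gd, Gc, Gb, Gd, Ge, Gf, Gd, Gh, Gi, Gd, Gc, Gb, Gd, Ge, Gf, Gd, Gh, Gi, Gd, Gc, Gb, Gd, Ge, Gf, Gd, Gh, Gi, Gd, Gc, Gb, Gd, Ge, Gf, Gd, Gh, Gi, Gd, Gc, Gb, Gd, Ge, Gf, Gd, Gh, Gi, Gd, Gc, Gb, Gd, Ge, Gf, Gd, Gh, Gi, Gd, Gc, Gb, Gd, Ge, Gf, Gd, Gh, Gi, Gd, Gc, Gb, Gd, Ge, Gf, Gd, Gh, Gi] 1 0 C.n = true := by decide +kernel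

end Cfsg.Agent.H481.EP.FiRelB
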